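import Cfsg.Agent.H865.Three

/-!
Subgroups of order 3 of `Cfsg.M24` and their fixed points.
-/

set_option autoImplicit false

namespace Cfsg.Agent.H865.ThreeClasses

open Cfsg Cfsg.Agent.SporadicA.GolayBase Cfsg.Agent.SporadicA.GolayPerm
open Cfsg.Agent.SporadicStructure.M24El Cfsg.Agent.H865.Three
open scoped Pointwise

/-- the common fixed points of a subgroup -/
def fx (X : Subgroup ↥M24) : Set GolayPt :=
  {p : GolayPt | ∀ x ∈ X, ((x : ↥M24) : Equiv.Perm GolayPt) p = p}

theorem exists_gen {p : ℕ} (hp : p.Prime) {G : Type*} [Group G] {X : Subgroup G}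
    (hX : Nat.card X = p) : ∃ g : G, orderOf g = p ∧ X = Subgroup.zpowers g := by
  have h1 : (⊥ : Subgroup G) ≠ X := by
    rintro rfl
    rw [Subgroup.card_bot] at hX
    exact hp.one_lt.ne hX
  obtain ⟨x, hxX, hx⟩ := SetLike.exists_of_lt (bot_lt_iff_ne_bot.2 h1.symm)
  rw [Subgroup.mem_bot] at hx
  have hfin : Finite ↥X := Nat.finite_of_card_ne_zero (by rw [hX]; exact hp.ne_zero)
  have h2 : orderOf x ∣ p := by
    rw [← hX]
    exact Subgroup.orderOf_dvd_natCard X hxX
  have h3 : orderOf x = p := by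
    rcases (Nat.dvd_prime hp).1 h2 with h | h
    · exact absurd (orderOf_eq_one_iff.1 h) hx
    · exact h
  refine ⟨x, h3, (Subgroup.eq_of_le_of_card_ge ?_ ?_).symm⟩
  · rw [Subgroup.zpowers_le]
    exact hxX
  · rw [Nat.card_zpowers, h3, hX]

theorem conj_smul_zpowers {G : Type*} [Group G] (k g : G) :
    MulAut.conj k • Subgroup.zpowers g = Subgroup.zpowers (k * g * k⁻¹) := by
  have h := MonoidHom.map_zpowers (MulAut.conj k).toMonoidHom g
  exact h

theorem mem_fx_zpowers {g : ↥M24} {p : GolayPt} :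
    p ∈ fx (Subgroup.zpowers g) ↔ (g : Equiv.Perm GolayPt) p = p := by
  constructor
  · intro h
    exact h g (Subgroup.mem_zpowers g)
  · intro h x hx
    have h1 : Subgroup.zpowers g ≤ MulAction.stabilizer ↥M24 p := by
      rw [Subgroup.zpowers_le, MulAction.mem_stabilizer_iff]
      exact h
    exact h1 hx

theorem fx_conj (k : ↥M24) (X : Subgroup ↥M24) :
    fx (MulAut.conj k • X) = (k : Equiv.Perm GolayPt) '' fx X := by
  ext p
  constructor
  · intro h
    refine ⟨(k : Equiv.Perm GolayPt)⁻¹ p, ?_, ?_⟩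
    · intro x hx
      have h1 : k * x * k⁻¹ ∈ MulAut.conj k • X := ⟨x, hx, rfl⟩
      have h2 : (k : Equiv.Perm GolayPt) ((x : Equiv.Perm GolayPt)
        ((k : Equiv.Perm GolayPt)⁻¹ p)) = p := h _ h1
      rw [Equiv.Perm.eq_inv_iff_eq]
      exact h2
    · exact Equiv.apply_symm_apply _ _
  · rintro ⟨q, hq, rfl⟩ y ⟨x, hx, rfl⟩
    have h1 := hq x hx
    have h2 : (k : Equiv.Perm GolayPt)⁻¹ ((k : Equiv.Perm GolayPt) q) = q :=
      Equiv.symm_apply_apply _ _
    show (k : Equiv.Perm GolayPt) ((x : Equiv.Perm GolayPt)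
        ((k : Equiv.Perm GolayPt)⁻¹ ((k : Equiv.Perm GolayPt) q))) = (k : Equiv.Perm GolayPt) q
    rw [h2, h1]

theorem ncard_fx_conj (k : ↥M24) (X : Subgroup ↥M24) :
    (fx (MulAut.conj k • X)).ncard = (fx X).ncard := by
  rw [fx_conj, Set.ncard_image_of_injective _ (Equiv.injective _)]

theorem fx_el {P : ℕ} (h : ok P = true) (p : GolayPt) :
    (el P : Equiv.Perm GolayPt) p = p ↔ papp P (idx p) = idx p := by
  constructor
  · intro h1
    have h2 := idx_el_smul h p
    rw [show el P • p = p from h1] at h2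
    exact h2.symm
  · intro h1
    have h2 := el_smul_pt h p
    rw [h1, pt_idx] at h2
    exact h2

theorem ncard_fx_A : (fx (Subgroup.zpowers (el A))).ncard = 6 := by
  have h : fx (Subgroup.zpowers (el A)) =
      ((Finset.univ.filter fun p : GolayPt => papp A (idx p) = idx p : Finset GolayPt) :
        Set GolayPt) := by
    ext p
    rw [mem_fx_zpowers, fx_el okA, Finset.mem_coe, Finset.mem_filter]
    simp only [Finset.mem_univ, true_and]
  rw [h, Set.ncard_coe_finset]
  decide +kernel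

theorem ncard_fx_B : (fx (Subgroup.zpowers (el B))).ncard = 0 := by
  have h : fx (Subgroup.zpowers (el B)) =
      ((Finset.univ.filter fun p : GolayPt => papp B (idx p) = idx p : Finset GolayPt) :
        Set GolayPt) := by
    ext p
    rw [mem_fx_zpowers, fx_el okB, Finset.mem_coe, Finset.mem_filter]
    simp only [Finset.mem_univ, true_and]
  rw [h, Set.ncard_coe_finset]
  decide +kernel

theorem orderOf_A : orderOf (el A) = 3 := by
  apply orderOf_eq_prime
  · have h : pcomp A (pcomp A A) = idP := by decide +kernel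
    rw [pow_succ, pow_two, ← el_idP, ← h, el_pcomp okA (ok_pcomp okA okA), el_pcomp okA okA,
      mul_assoc]
  · intro h
    have h2 := idx_el_smul okA (some 0)
    rw [h, one_smul] at h2
    revert h2
    decide +kernel

theorem orderOf_B : orderOf (el B) = 3 := by
  apply orderOf_eq_prime
  · have h : pcomp B (pcomp B B) = idP := by decide +kernel
    rw [pow_succ, pow_two, ← el_idP, ← h, el_pcomp okB (ok_pcomp okB okB), el_pcomp okB okB,
      mul_assoc]
  · intro h
    have h2 := idx_el_smul okB none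
    rw [h, one_smul] at h2
    revert h2
    decide +kernel

theorem conj_class {X : Subgroup ↥M24} (hX : Nat.card X = 3) :
    ∃ k : ↥M24, MulAut.conj k • X = Subgroup.zpowers (el A) ∨
      MulAut.conj k • X = Subgroup.zpowers (el B) := by
  obtain ⟨g, hg, rfl⟩ := exists_gen Nat.prime_three hX
  obtain ⟨k, hk⟩ := conj_of_orderOf hg
  refine ⟨k, ?_⟩
  rw [conj_smul_zpowers]
  rcases hk with hk | hk
  · left; rw [hk]
  · right; rw [hk]

theorem exists_conj_of_eq {X Y Z : Subgroup ↥M24} {k l : ↥M24} (h1 : MulAut.conj k • X = Z)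
    (h2 : MulAut.conj l • Y = Z) : ∃ m : ↥M24, MulAut.conj m • X = Y := by
  refine ⟨l⁻¹ * k, ?_⟩
  rw [map_mul, mul_smul, h1, ← h2, map_inv, inv_smul_smul]

theorem classes :
    (∀ X : Subgroup ↥Cfsg.M24, Nat.card X = 3 → (fx X).ncard = 6 ∨ (fx X).ncard = 0) ∧
    (∃ X : Subgroup ↥Cfsg.M24, Nat.card X = 3 ∧ (fx X).ncard = 6) ∧
    (∃ X : Subgroup ↥Cfsg.M24, Nat.card X = 3 ∧ (fx X).ncard = 0) ∧
    ∀ X Y : Subgroup ↥Cfsg.M24, Nat.card X = 3 → Nat.card Y = 3 → (fx X).ncard = (fx Y).ncard →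
      ∃ k : ↥Cfsg.M24, MulAut.conj k • X = Y := by
  refine ⟨?_, ?_, ?_, ?_⟩
  · intro X hX
    obtain ⟨k, hk | hk⟩ := conj_class hX
    · left; rw [← ncard_fx_conj k, hk, ncard_fx_A]
    · right; rw [← ncard_fx_conj k, hk, ncard_fx_B]
  · exact ⟨_, by rw [Nat.card_zpowers, orderOf_A], ncard_fx_A⟩
  · exact ⟨_, by rw [Nat.card_zpowers, orderOf_B], ncard_fx_B⟩
  · intro X Y hX hY hXY
    obtain ⟨k, hk⟩ := conj_class hX
    obtain ⟨l, hl⟩ := conj_class hY
    rcases hk with hk | hk <;> rcases hl with hl | hl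
    · exact exists_conj_of_eq hk hl
    · rw [← ncard_fx_conj k X, ← ncard_fx_conj l Y, hk, hl, ncard_fx_A, ncard_fx_B] at hXY
      exact absurd hXY (by norm_num)
    · rw [← ncard_fx_conj k X, ← ncard_fx_conj l Y, hk, hl, ncard_fx_A, ncard_fx_B] at hXY
      exact absurd hXY (by norm_num)
    · exact exists_conj_of_eq hk hl

end Cfsg.Agent.H865.ThreeClasses
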