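import Cfsg.Agent.H865.RhoTwo
import Cfsg.Agent.H860.Count

/-!
# Conjugacy classes of elements of order divisible by 3 in a group with the structure `J4Type.Compl`

* `nc_rho` : `C(ρ)` has exactly nine classes of 2-elements;
* `conj_inv` : `ρ` and `ρ⁻¹` are conjugate; `no_nine` : no element of order 9;
* `conj_three` : all non-trivial 3-elements are conjugate to `ρ` (if 3 does not divide the index of `C(z)`);
* `nc_three` : there are exactly nine classes of elements of order divisible by 3 and prime to 5, 7, 11.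
-/

set_option autoImplicit false
set_option linter.unusedSectionVars false

namespace Cfsg.Agent.H865.RhoClasses

open Subgroup Cfsg Cfsg.Agent.J4Type Cfsg.Agent.J4Type.FusionCent Cfsg.Agent.J4Type.TauF
open Cfsg.Agent.J4Type.CocodeMask Cfsg.Agent.J4Type.POuter
open Cfsg.Agent.H856.ThreeM24 Cfsg.Agent.H856.ThreeRho Cfsg.Agent.H856.CentRho
open Cfsg.Agent.SporadicA.GolayBase (idx pt)
open Cfsg.Agent.H860.Count Cfsg.Agent.H865.RhoTwo
open scoped Pointwise

variable {K : Type*} [Group K] [Finite K] (F : J4Type.Compl K)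

/-- the exponent of `C(ρ)` -/
theorem pow_exp {u : K} (hu : u * F.ρ = F.ρ * u) : u ^ (443520 * 6) = 1 := by
  have h1 : fM F (up F hu ^ 443520) = 1 := by
    rw [map_pow, ← SporadicA.MathieuRecog.card_M22]
    exact pow_card_eq_one'
  obtain ⟨i, j, h2⟩ := fM_ker F _ h1
  have h3 : u ^ 443520 = F.z ^ i * F.ρ ^ j := congrArg Subtype.val h2
  have c1 : Commute F.z F.ρ := F.ρ_comm.symm
  rw [pow_mul, h3, (c1.pow_pow i j).mul_pow]
  have hz : (F.z ^ i) ^ 6 = 1 := by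
    have : (F.z ^ i) ^ 6 = ((F.z ^ 2) ^ i) ^ 3 := by rw [← pow_mul, ← pow_mul, ← pow_mul]; congr 1; ring
    rw [this, pow_two, zzF, one_pow, one_pow]
  have hρ : (F.ρ ^ j) ^ 6 = 1 := by
    have : (F.ρ ^ j) ^ 6 = ((F.ρ ^ 3) ^ j) ^ 2 := by rw [← pow_mul, ← pow_mul, ← pow_mul]; congr 1; ring
    rw [this, rho3, one_pow, one_pow]
  rw [hz, hρ, one_mul]

theorem two_of {u : K} (hu : u * F.ρ = F.ρ * u) (h3 : ¬ 3 ∣ orderOf u) (h5 : ¬ 5 ∣ orderOf u)
    (h7 : ¬ 7 ∣ orderOf u) (h11 : ¬ 11 ∣ orderOf u) : ∃ k, orderOf u = 2 ^ k := by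
  have h := orderOf_dvd_of_pow_eq_one (pow_exp F hu)
  have e : 443520 * 6 = 2 ^ 8 * (3 * 3 * 3 * 5 * 7 * 11) := by norm_num
  rw [e] at h
  have c3 : Nat.Coprime (orderOf u) 3 := ((Nat.Prime.coprime_iff_not_dvd (by norm_num)).2 h3).symm
  have c5 : Nat.Coprime (orderOf u) 5 := ((Nat.Prime.coprime_iff_not_dvd (by norm_num)).2 h5).symm
  have c7 : Nat.Coprime (orderOf u) 7 := ((Nat.Prime.coprime_iff_not_dvd (by norm_num)).2 h7).symm
  have c11 : Nat.Coprime (orderOf u) 11 := ((Nat.Prime.coprime_iff_not_dvd (by norm_num)).2 h11).symm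
  have hc : Nat.Coprime (orderOf u) (3 * 3 * 3 * 5 * 7 * 11) :=
    (((((c3.mul_right c3).mul_right c3).mul_right c5).mul_right c7).mul_right c11)
  obtain ⟨k, -, hk⟩ := (Nat.dvd_prime_pow Nat.prime_two).1 (hc.dvd_of_dvd_mul_right h)
  exact ⟨k, hk⟩

/-- the nine classes of 2-elements of `C(ρ)` -/
theorem nc_rho : nc (centralizer ({F.ρ} : Set K)) (fun n => ∃ k, n = 2 ^ k) = 9 := by
  have h := nc_eq_card (G := centralizer ({F.ρ} : Set K)) (P := fun n => ∃ k, n = 2 ^ k)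
    (x := fun i : Fin 9 => ⟨rr F i, mem_centralizer_singleton_iff.2 (rr_rho F i)⟩) ?_ ?_ ?_
  · rw [h, Nat.card_fin]
  · intro i
    rw [Subgroup.orderOf_mk]
    have h1 : orderOf (rr F i) ∣ 2 ^ 3 := orderOf_dvd_of_pow_eq_one (rr_pow F i)
    obtain ⟨k, -, hk⟩ := (Nat.dvd_prime_pow Nat.prime_two).1 h1
    exact ⟨k, hk⟩
  · intro i j hij
    obtain ⟨c, hc⟩ := isConj_iff.1 hij
    exact rr_inj F (mem_centralizer_singleton_iff.1 c.2) (congrArg Subtype.val hc)
  · rintro ⟨u, hu⟩ ⟨k, hk⟩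
    rw [Subgroup.orderOf_mk] at hk
    obtain ⟨d, hd, i, hi⟩ := exists_rr F (mem_centralizer_singleton_iff.1 hu) (n := k) (by
      rw [← hk]; exact pow_orderOf_eq_one u)
    exact ⟨i, isConj_iff.2 ⟨⟨d, mem_centralizer_singleton_iff.2 hd⟩, Subtype.ext hi⟩⟩

/-- an element of `M24` exchanging the two base points -/
noncomputable def sw : M24 := mk 1795248432537898728475572672376535 (by decide +kernel)

theorem sw_apply : (sw : Equiv.Perm GolayPt) none = some 0 ∧ (sw : Equiv.Perm GolayPt) (some 0) = none :=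
  ⟨apply_eq (isTab_mk _ _) (by decide +kernel), apply_eq (isTab_mk _ _) (by decide +kernel)⟩

/-- `ρ` and `ρ⁻¹` are conjugate -/
theorem conj_inv : ∃ g : K, g * F.ρ * g⁻¹ = F.ρ⁻¹ := by
  have h1 : (sw : Equiv.Perm GolayPt) ∈ F.P.range := by
    rw [F.P_range]
    refine ⟨sw.2, ?_⟩
    change (sw : Equiv.Perm GolayPt) • base = base
    rw [base, Finset.smul_finset_insert, Finset.smul_finset_singleton]
    change ({(sw : Equiv.Perm GolayPt) none, (sw : Equiv.Perm GolayPt) (some 0)} : Finset GolayPt) = _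
    rw [sw_apply.1, sw_apply.2]
    exact Finset.pair_comm _ _
  obtain ⟨c, hc⟩ := h1
  obtain ⟨x, -, hx⟩ := NormRho.exists_inv F.toHex c (by rw [hc, sw_apply.1]; decide)
  exact ⟨_, hx⟩

/-- no element with cube `ρ` -/
theorem no_root {x : K} (hx : x * x * x = F.ρ) : False := by
  have hxρ : x * F.ρ = F.ρ * x := by rw [← hx]; group
  have h3 : (fM F (up F hxρ) : Equiv.Perm GolayPt) ^ 3 = 1 := by
    have h1 : fM F (up F hxρ * up F hxρ * up F hxρ) = 1 := by
      apply Subtype.ext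
      show F.P (toC F (up F hxρ * up F hxρ * up F hxρ)) = 1
      refine (F.P_ker _).2 ⟨1, F.Q.one_mem, 1, ?_⟩
      rw [one_mul, pow_one]
      exact hx
    rw [map_mul, map_mul] at h1
    rw [pow_succ, pow_two]
    exact congrArg Subtype.val h1
  have hzi : ∀ i : ℕ, F.z ^ i ≠ F.ρ := by
    intro i h
    have h1 : F.ρ ^ 2 = 1 := by
      rw [← h, ← pow_mul, mul_comm, pow_mul, pow_two, zzF, one_pow]
    have h2 := orderOf_dvd_of_pow_eq_one h1
    rw [F.ρ_order] at h2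
    exact absurd (Nat.le_of_dvd (by norm_num) h2) (by norm_num)
  have hcube : ∀ (i j : ℕ) (y : K), y * F.ρ = F.ρ * y → y * y * y = 1 → ∀ d : K, d * F.ρ = F.ρ * d →
      d * x * d⁻¹ = F.z ^ i * F.ρ ^ j * y → False := by
    intro i j y hy hy3 d hd h
    have c1 : Commute F.z F.ρ := F.ρ_comm.symm
    have c2 : Commute y F.z := cent_rho F hy
    have c3 : Commute y F.ρ := hy
    have d1 : Commute (F.z ^ i) (F.ρ ^ j) := c1.pow_pow i j
    have d2 : Commute (F.z ^ i * F.ρ ^ j) y := ((c2.pow_right i).mul_right (c3.pow_right j)).symm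
    have h1 : (d * x * d⁻¹) ^ 3 = F.ρ := by
      rw [conj_pow]
      have : x ^ 3 = F.ρ := by rw [pow_succ, pow_two]; exact hx
      rw [this, hd, mul_inv_cancel_right]
    rw [h, d2.mul_pow, d1.mul_pow] at h1
    have hy3' : y ^ 3 = 1 := by rw [pow_succ, pow_two]; exact hy3
    have hρ : (F.ρ ^ j) ^ 3 = 1 := by rw [← pow_mul, mul_comm, pow_mul, rho3, one_pow]
    rw [hy3', hρ, mul_one, mul_one, ← pow_mul] at h1
    exact hzi _ h1
  by_cases h1 : (fM F (up F hxρ) : Equiv.Perm GolayPt) = 1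
  · obtain ⟨i, j, h2⟩ := fM_ker F _ (Subtype.ext h1)
    have h4 : x = F.z ^ i * F.ρ ^ j := congrArg Subtype.val h2
    exact hcube i j 1 (by rw [one_mul, mul_one]) (by rw [one_mul, one_mul]) 1 (by rw [one_mul, mul_one])
      (by rw [mul_one, ← h4]; group)
  · have hy := phi_rho F comm1
    have hyz := cent_rho F hy
    obtain ⟨v, hv, hv'⟩ := exists_conj_s (fM F (up F hxρ)).2 h3 h1
    have hP1 : (fM F (up F hy) : Equiv.Perm GolayPt) ≠ 1 := P_y1 F
    have hm3 : F.φ m1 * F.φ m1 * F.φ m1 = 1 := by rw [← map_mul, ← map_mul, m1_cube, map_one]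
    have hP3 : (fM F (up F hy) : Equiv.Perm GolayPt) ^ 3 = 1 := by
      have h4 : up F hy * up F hy * up F hy = 1 := Subtype.ext (Subtype.ext hm3)
      have h5 := congrArg (fM F) h4
      rw [map_mul, map_mul, map_one] at h5
      rw [pow_succ, pow_two]
      exact congrArg Subtype.val h5
    obtain ⟨w, hw, hw'⟩ := exists_conj_s (fM F (up F hy)).2 hP3 hP1
    obtain ⟨d, hd⟩ := fM_surj F (⟨w, hw⟩⁻¹ * ⟨v, hv⟩)
    have h4 : fM F (d * up F hxρ * d⁻¹ * (up F hy)⁻¹) = 1 := by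
      rw [map_mul, map_mul, map_mul, map_inv, map_inv, hd, mul_inv_eq_one]
      apply Subtype.ext
      show w⁻¹ * v * (fM F (up F hxρ) : Equiv.Perm GolayPt) * (w⁻¹ * v)⁻¹ = (fM F (up F hy) : Equiv.Perm GolayPt)
      calc w⁻¹ * v * (fM F (up F hxρ) : Equiv.Perm GolayPt) * (w⁻¹ * v)⁻¹ =
          w⁻¹ * (v * (fM F (up F hxρ) : Equiv.Perm GolayPt) * v⁻¹) * w := by group
        _ = w⁻¹ * (w * (fM F (up F hy) : Equiv.Perm GolayPt) * w⁻¹) * w := by rw [hv', hw']
        _ = _ := by group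
    obtain ⟨i, j, h5⟩ := fM_ker F _ h4
    have h6 : ((d : HH F) : K) * x * ((d : HH F) : K)⁻¹ * (F.φ m1)⁻¹ = F.z ^ i * F.ρ ^ j :=
      congrArg Subtype.val h5
    rw [mul_inv_eq_iff_eq_mul] at h6
    exact hcube i j _ hy hm3 _ (mem_centralizer_singleton_iff.1 (d : HH F).2) h6

/-- all elements of order 3 are conjugate -/
theorem conj_order_three (hi : ¬ 3 ∣ (centralizer ({F.z} : Set K)).index) {x : K} (hx : orderOf x = 3) :
    ∃ g : K, g * x * g⁻¹ = F.ρ := by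
  obtain ⟨g, h | h⟩ := conj_rho F hi hx
  · exact ⟨g, h⟩
  · obtain ⟨k, hk⟩ := conj_inv F
    refine ⟨k * g, ?_⟩
    calc k * g * x * (k * g)⁻¹ = k * (g * x * g⁻¹) * k⁻¹ := by group
      _ = (k * F.ρ * k⁻¹)⁻¹ := by rw [h]; group
      _ = F.ρ := by rw [hk, inv_inv]

/-- there are no elements of order 9 -/
theorem no_nine (hi : ¬ 3 ∣ (centralizer ({F.z} : Set K)).index) (g : K) : ¬ 9 ∣ orderOf g := by
  rintro ⟨m, hm⟩
  have hm0 : m ≠ 0 := by
    rintro rfl
    have := orderOf_pos g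
    omega
  have h1 : orderOf (g ^ m) = 9 := by
    rw [orderOf_pow' g hm0, hm, Nat.gcd_mul_left_left, Nat.mul_div_cancel _ (Nat.pos_of_ne_zero hm0)]
  have h2 : orderOf ((g ^ m) ^ 3) = 3 := by
    rw [orderOf_pow' _ (by norm_num), h1]
    norm_num
  obtain ⟨k, hk⟩ := conj_order_three F hi h2
  apply no_root F (x := k * g ^ m * k⁻¹)
  rw [← hk]
  have h3 : (g ^ m) ^ 3 = g ^ m * g ^ m * g ^ m := by rw [pow_succ, pow_two]
  rw [h3]; group

/-- all nontrivial 3-elements are conjugate to `ρ` -/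
theorem conj_three (hi : ¬ 3 ∣ (centralizer ({F.z} : Set K)).index) {x : K} {e : ℕ}
    (hx : orderOf x = 3 ^ (e + 1)) : IsConj x F.ρ := by
  have he : e = 0 := by
    by_contra he
    obtain ⟨k, rfl⟩ := Nat.exists_eq_succ_of_ne_zero he
    apply no_nine F hi x
    rw [hx, pow_succ, pow_succ, mul_assoc]
    exact Dvd.intro_left _ rfl
  subst he
  obtain ⟨g, hg⟩ := conj_order_three F hi (hx.trans (by norm_num))
  exact isConj_iff.2 ⟨g, hg⟩

/-- **Part (B)**: nine classes of elements of order divisible by 3 and prime to 5, 7, 11 -/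
theorem nc_three (hi : ¬ 3 ∣ (centralizer ({F.z} : Set K)).index) :
    nc K (fun n => 3 ∣ n ∧ (¬ 5 ∣ n ∧ ¬ 7 ∣ n ∧ ¬ 11 ∣ n)) = 9 := by
  have : Fact (Nat.Prime 3) := ⟨Nat.prime_three⟩
  rw [nc_part (p := 3) (fun n => ¬ 5 ∣ n ∧ ¬ 7 ∣ n ∧ ¬ 11 ∣ n) (m := 1) (fun _ => F.ρ)
    (fun _ => ⟨0, by rw [F.ρ_order]; norm_num⟩) (fun i j _ => Subsingleton.elim i j)
    (fun g ⟨e, he⟩ => ⟨0, conj_three F hi he⟩), Fin.sum_univ_one]
  rw [← nc_rho F]
  apply nc_congr
  rintro ⟨u, hu⟩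
  have hu' := mem_centralizer_singleton_iff.1 hu
  rw [Subgroup.orderOf_mk, F.ρ_order]
  constructor
  · rintro ⟨h3, h5, h7, h11⟩
    exact two_of F hu' h3 (fun h => h5 (h.mul_left 3)) (fun h => h7 (h.mul_left 3)) (fun h => h11 (h.mul_left 3))
  · rintro ⟨k, hk⟩
    rw [hk]
    have hp : ∀ p : ℕ, p.Prime → p ≠ 2 → ¬ p ∣ 2 ^ k := by
      intro p hp h2 h
      exact h2 ((Nat.prime_dvd_prime_iff_eq hp Nat.prime_two).1 (hp.dvd_of_dvd_pow h))
    have hp' : ∀ p : ℕ, p.Prime → p ≠ 2 → p ≠ 3 → ¬ p ∣ 3 * 2 ^ k := by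
      intro p hpp h2 h3 h
      rcases hpp.dvd_mul.1 h with h | h
      · exact h3 ((Nat.prime_dvd_prime_iff_eq hpp Nat.prime_three).1 h)
      · exact hp p hpp h2 h
    exact ⟨hp 3 (by norm_num) (by norm_num), hp' 5 (by norm_num) (by norm_num) (by norm_num),
      hp' 7 (by norm_num) (by norm_num) (by norm_num), hp' 11 (by norm_num) (by norm_num) (by norm_num)⟩

end Cfsg.Agent.H865.RhoClasses
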