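import Cfsg.Agent.H865.ListGroup
import Cfsg.Agent.SporadicA.M24Trans

/-!
The elements of order 3 of `Cfsg.M24`: two classes.
-/

set_option autoImplicit false

namespace Cfsg.Agent.H865.Three

open Cfsg Cfsg.Agent.SporadicA.GolayBase Cfsg.Agent.SporadicA.GolayPerm
open Cfsg.Agent.SporadicStructure.M24El Cfsg.Agent.H865.ListGroup
open scoped Pointwise

/-- an element with six fixed points -/
def A : ℕ := 960825421553334439665008362244049969

/-- a fixed-point-free element -/
def B : ℕ := 513063896757474546024332297931070020

/-- the 27 elements of a Sylow 3-subgroup -/
def L : List ℕ := [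
  984818244535754528103549039458486304, 964881191720758182463306665992345152,
  960670707584473135576722967792921184, 524685161633760058998554559899600932,
  513063896757474546024332297931070020, 505054263765063746603134463470019172,
  560147687311675080422219246985119781, 562639176581030991179072533950022213,
  540089591208844006662812763637955173, 505600682408799273002715533400116263,
  524849244960154295503731144829616711, 512880739142020630413785506878270055,
  540856580837097457374133567643487275, 559803442540767180260128362391098955,
  562216432774951513439260511221129835, 965132897695136284939816039732028463,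
  960924853547118164503934455558881871, 984312390613913680399629162069172847,
  960825421553334439665008362244049969, 984522170045181367026631790488459857,
  964616903816595002648565887447349873, 562319172575553240365347540860740660,
  540432473131360068007998929753348692, 559840854971286823976171656505141876,
  513613501168696149857669144673068086, 505537855022459101616375265817220694,
  524787780534927670758563843499375222]

/-- conjugating elements -/
def CL : List ℕ := [
  750741330737998826827308934949508097, 969763542896320665013989610468150273,
  278118405826969641191258273026028576, 984818244535754528103549039458486304,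
  964807666673130604710404469913921120, 486057318562174051119582141998314528,
  554936375866907361991357128225432608, 566393956650477912850559251430607456,
  337965305590829344174147213204133920, 137922983982016926376353507342730816,
  475594103774355261759844493132474944, 186421234989125231144322716935725088,
  546882930921616459675153519270634080, 925740617724430978422035284569397280,
  963340202643419566591574436190914592, 792179587291214134253509273447765664,
  529212006596051356304726201483073024, 984818244535754528103549039458486304,
  524020944041027996597886025920168096, 959869049797863846459407244560974464,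
  590889642155339706629348223899315232, 607787820394507583277677718108028480,
  917987683996696741868115383168704064, 189003445097666377587880599318110240,
  960670707584473135576722967792921184, 462221640260166388297457258480578592]

theorem okA : ok A = true := by decide +kernel

theorem okB : ok B = true := by decide +kernel

theorem chkL : chkGroup L = true := by decide +kernel

theorem L_nodup : L.Nodup := by decide +kernel

theorem CL_ok : ∀ c ∈ CL, ok c = true := by decide +kernel

/-- the check of the conjugations -/
def chkConj : Bool := L.all fun P => Nat.beq P idP ||
  CL.any fun c => Nat.beq (pcomp c P) (pcomp A c) || Nat.beq (pcomp c P) (pcomp B c)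

theorem chkConj_true : chkConj = true := by decide +kernel

theorem conj_L {P : ℕ} (hP : P ∈ L) (hne : el P ≠ 1) :
    ∃ c : M24, c * el P * c⁻¹ = el A ∨ c * el P * c⁻¹ = el B := by
  have h := chkConj_true
  unfold chkConj at h
  rw [List.all_eq_true] at h
  have h1 := h P hP
  have okP := ((chkGroup_spec chkL).1 P hP).1
  rw [Bool.or_eq_true, Nat.beq_eq, List.any_eq_true] at h1
  rcases h1 with h1 | ⟨c, hc, h1⟩
  · exact absurd (by rw [h1, el_idP]) hne
  · have okc := CL_ok c hc
    rw [Bool.or_eq_true, Nat.beq_eq, Nat.beq_eq] at h1
    refine ⟨el c, ?_⟩
    rcases h1 with h1 | h1
    · left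
      rw [mul_inv_eq_iff_eq_mul, ← el_pcomp okc okP, ← el_pcomp okA okc, h1]
    · right
      rw [mul_inv_eq_iff_eq_mul, ← el_pcomp okc okP, ← el_pcomp okB okc, h1]

instance instFactPrimeThree : Fact (Nat.Prime 3) := ⟨Nat.prime_three⟩

theorem card_S : Nat.card ↥(listGroup L chkL) = 3 ^ (Nat.card M24).factorization 3 := by
  have h1 : (Nat.card M24).factorization 3 = 3 := by
    rw [Cfsg.Agent.SporadicA.M24Trans.card_M24,
      show (244823040 : ℕ) = 3 ^ 3 * 9067520 by norm_num,
      Nat.factorization_mul (by norm_num) (by norm_num), Nat.Prime.factorization_pow Nat.prime_three,
      Finsupp.add_apply, Finsupp.single_eq_same,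
      Nat.factorization_eq_zero_of_not_dvd (by norm_num)]
  rw [h1, card_listGroup chkL L_nodup]
  decide +kernel

/-- a Sylow 3-subgroup -/
noncomputable def S : Sylow 3 M24 := Sylow.ofCard (listGroup L chkL) card_S

theorem mem_S {g : M24} : g ∈ S ↔ ∃ P ∈ L, g = el P := Iff.rfl

/-- Every element of order 3 of `M24` is conjugate to `el A` or to `el B`. -/
theorem conj_of_orderOf {g : M24} (hg : orderOf g = 3) :
    ∃ c : M24, c * g * c⁻¹ = el A ∨ c * g * c⁻¹ = el B := by
  have hpg : IsPGroup 3 (Subgroup.zpowers g) := by
    apply IsPGroup.of_card (n := 1)
    rw [Nat.card_zpowers, hg, pow_one]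
  obtain ⟨Q, hQ⟩ := hpg.exists_le_sylow
  obtain ⟨k, hk⟩ := MulAction.exists_smul_eq M24 Q S
  have hgQ : g ∈ Q := hQ (Subgroup.mem_zpowers g)
  have hmem : k * g * k⁻¹ ∈ S := by
    rw [← hk]
    exact ⟨g, hgQ, rfl⟩
  obtain ⟨P, hP, hgP⟩ := mem_S.1 hmem
  have hne : el P ≠ 1 := by
    rw [← hgP]
    intro h
    rw [conj_eq_one_iff] at h
    rw [h, orderOf_one] at hg
    exact absurd hg (by norm_num)
  obtain ⟨c, hc⟩ := conj_L hP hne
  refine ⟨c * k, ?_⟩
  have e : c * k * g * (c * k)⁻¹ = c * el P * c⁻¹ := by
    rw [← hgP]
    group
  rw [e]
  exact hc

end Cfsg.Agent.H865.Three
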