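import Cfsg.Agent.H860.Count
import Cfsg.Agent.Solvable.SchurZassenhausConj

/-!
# Classes of `p'`-elements modulo a normal `p`-subgroup

`nc_quotient` : the number of classes of `p'`-elements (with a condition on the order) of a finite
group `G` is the number of such classes of `G ⧸ N`, for a normal `p`-subgroup `N`.
-/

set_option autoImplicit false

namespace Cfsg.Agent.H865.HallClasses

open Cfsg.Agent.H860.Count Subgroup

variable {G : Type*} [Group G] [Finite G] {p : ℕ} [hp : Fact p.Prime] (N : Subgroup G) [N.Normal]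

omit [Finite G] [N.Normal] in
/-- a `p'`-element and a `p`-subgroup meet trivially -/
theorem eq_one_of_mem (hN : IsPGroup p N) {g : G} (hg : ¬ p ∣ orderOf g) {x : G} (hx : x ∈ zpowers g)
    (hxN : x ∈ N) : x = 1 := by
  obtain ⟨k, hk⟩ := hN ⟨x, hxN⟩
  have hk' : x ^ p ^ k = 1 := congrArg Subtype.val hk
  have h1 : orderOf x ∣ p ^ k := orderOf_dvd_of_pow_eq_one hk'
  have h2 : orderOf x ∣ orderOf g := orderOf_dvd_of_mem_zpowers hx
  have h3 : Nat.Coprime (p ^ k) (orderOf g) :=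
    Nat.Coprime.pow_left k ((Nat.Prime.coprime_iff_not_dvd hp.out).2 hg)
  exact orderOf_eq_one_iff.1 (Nat.eq_one_of_dvd_coprimes h3 h1 h2)

omit [Finite G] in
theorem orderOf_mk (hN : IsPGroup p N) {g : G} (hg : ¬ p ∣ orderOf g) :
    orderOf (QuotientGroup.mk g : G ⧸ N) = orderOf g := by
  apply Nat.dvd_antisymm
  · exact orderOf_map_dvd (QuotientGroup.mk' N) g
  · apply orderOf_dvd_of_pow_eq_one
    apply eq_one_of_mem N hN hg (pow_mem (mem_zpowers g) _)
    rw [← QuotientGroup.eq_one_iff, QuotientGroup.mk_pow, pow_orderOf_eq_one]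

/-- `p'`-elements with the same image modulo a normal `p`-subgroup are conjugate -/
theorem isConj_of_mk (hN : IsPGroup p N) {g g' : G} (hg : ¬ p ∣ orderOf g) (hg' : ¬ p ∣ orderOf g')
    (h : (QuotientGroup.mk g : G ⧸ N) = QuotientGroup.mk g') : IsConj g g' := by
  have ho : orderOf g = orderOf g' := by
    rw [← orderOf_mk N hN hg, ← orderOf_mk N hN hg', h]
  have hgS : zpowers g ≤ N ⊔ zpowers g := le_sup_right
  have hN' : N ≤ N ⊔ zpowers g := le_sup_left
  have hg'S : zpowers g' ≤ N ⊔ zpowers g := by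
    rw [zpowers_le]
    have h1 : g⁻¹ * g' ∈ N := QuotientGroup.eq.1 h
    have h2 : g' = g * (g⁻¹ * g') := by group
    rw [h2]
    exact mul_mem (hgS (mem_zpowers g)) (hN' h1)
  set S := N ⊔ zpowers g with hS
  have hidx : (N.subgroupOf S).index = orderOf g := by
    have h1 : N.relIndex S = N.relIndex (zpowers g) := by
      rw [hS, sup_comm, Subgroup.relIndex_sup_right]
    rw [Subgroup.relIndex] at h1
    rw [h1, ← Nat.card_zpowers]
    have h2 : N.subgroupOf (zpowers g) = ⊥ := by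
      rw [eq_bot_iff]
      intro x hx
      exact Subtype.ext (eq_one_of_mem N hN hg x.2 hx)
    rw [Subgroup.relIndex, h2, index_bot]
  have hcard : ∀ K : Subgroup G, K ≤ S → Nat.card (K.subgroupOf S) = Nat.card K := fun K hK =>
    Nat.card_congr (subgroupOfEquivOfLe hK).toEquiv
  obtain ⟨m, hm⟩ := IsPGroup.iff_card.1 hN
  have hcop : (Nat.card (N.subgroupOf S)).Coprime (N.subgroupOf S).index := by
    rw [hcard N hN', hidx, hm]
    exact Nat.Coprime.pow_left m ((Nat.Prime.coprime_iff_not_dvd hp.out).2 hg)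
  have hc1 : IsComplement' (N.subgroupOf S) ((zpowers g).subgroupOf S) :=
    Cfsg.Agent.Solvable.SchurZassenhausConj.isComplement'_of_card_eq_index _ _ hcop
      (by rw [hcard _ hgS, hidx, Nat.card_zpowers])
  have hc2 : IsComplement' (N.subgroupOf S) ((zpowers g').subgroupOf S) :=
    Cfsg.Agent.Solvable.SchurZassenhausConj.isComplement'_of_card_eq_index _ _ hcop
      (by rw [hcard _ hg'S, hidx, Nat.card_zpowers, ho])
  have hsol : Group.IsSolvable (N.subgroupOf S) := by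
    have h1 : IsPGroup p (N.subgroupOf S) := hN.of_injective (subgroupOfEquivOfLe hN').toMonoidHom
      (subgroupOfEquivOfLe hN').injective
    have := h1.isNilpotent
    infer_instance
  obtain ⟨s, hs⟩ := Cfsg.Agent.Solvable.SchurZassenhausConj.conj_of_solvable (N.subgroupOf S) hcop
    (Or.inl hsol) _ _ hc1 hc2
  have h3 : (s : G) * g * (s : G)⁻¹ ∈ zpowers g' := by
    have h4 : s * ⟨g, hgS (mem_zpowers g)⟩ * s⁻¹ ∈ (zpowers g').subgroupOf S := by
      rw [← hs]
      exact Subgroup.smul_mem_pointwise_smul _ (MulAut.conj s) _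
        (show (⟨g, hgS (mem_zpowers g)⟩ : S) ∈ (zpowers g).subgroupOf S from mem_zpowers g)
    exact h4
  have h5 : (QuotientGroup.mk ((s : G) * g * (s : G)⁻¹) : G ⧸ N) = QuotientGroup.mk g := by
    obtain ⟨y, hy, z, hz, hyz⟩ := Subgroup.mem_sup_of_normal_left.1 s.2
    obtain ⟨k, rfl⟩ := mem_zpowers_iff.1 hz
    rw [← hyz]
    have h6 : (QuotientGroup.mk y : G ⧸ N) = 1 := (QuotientGroup.eq_one_iff _).2 hy
    rw [QuotientGroup.mk_mul, QuotientGroup.mk_mul, QuotientGroup.mk_inv, QuotientGroup.mk_mul, h6,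
      one_mul, ← QuotientGroup.mk_mul, ← QuotientGroup.mk_inv, ← QuotientGroup.mk_mul]
    congr 1
    group
  refine isConj_iff.2 ⟨s, ?_⟩
  have h7 : (s : G) * g * (s : G)⁻¹ * g'⁻¹ ∈ N := by
    rw [← QuotientGroup.eq_one_iff, QuotientGroup.mk_mul, h5, h, QuotientGroup.mk_inv, mul_inv_cancel]
  have h8 := eq_one_of_mem N hN hg' (mul_mem h3 (inv_mem (mem_zpowers g'))) h7
  exact mul_inv_eq_one.1 h8

/-- lifting `p'`-elements -/
theorem exists_lift {q : G ⧸ N} (hq : ¬ p ∣ orderOf q) :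
    ∃ g : G, QuotientGroup.mk g = q ∧ ¬ p ∣ orderOf g := by
  obtain ⟨g0, rfl⟩ := QuotientGroup.mk_surjective q
  obtain ⟨k, l, -, -, h⟩ := exists_exponents G hp.out
  obtain ⟨h1, ⟨e, he⟩, h3⟩ := h g0
  refine ⟨g0 ^ l, ?_, h3⟩
  have h4 : (QuotientGroup.mk (g0 ^ k) : G ⧸ N) = 1 := by
    have h5 : orderOf (QuotientGroup.mk (g0 ^ k) : G ⧸ N) ∣ p ^ e := by
      rw [← he]
      exact orderOf_map_dvd (QuotientGroup.mk' N) _
    have h6 : orderOf (QuotientGroup.mk (g0 ^ k) : G ⧸ N) ∣ orderOf (QuotientGroup.mk g0 : G ⧸ N) := by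
      rw [QuotientGroup.mk_pow]
      exact orderOf_dvd_of_mem_zpowers (pow_mem (mem_zpowers _) _)
    have h7 : Nat.Coprime (p ^ e) (orderOf (QuotientGroup.mk g0 : G ⧸ N)) :=
      Nat.Coprime.pow_left e ((Nat.Prime.coprime_iff_not_dvd hp.out).2 hq)
    exact orderOf_eq_one_iff.1 (Nat.eq_one_of_dvd_coprimes h7 h5 h6)
  conv_rhs => rw [← h1]
  rw [QuotientGroup.mk_mul, h4, one_mul]

/-- **classes of `p'`-elements modulo a normal `p`-subgroup** -/
theorem nc_quotient (hN : IsPGroup p N) (P : ℕ → Prop) :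
    nc G (fun n => ¬ p ∣ n ∧ P n) = nc (G ⧸ N) (fun n => ¬ p ∣ n ∧ P n) := by
  classical
  have key : ∀ c : {c : ConjClasses (G ⧸ N) // ∃ q, ConjClasses.mk q = c ∧ ¬ p ∣ orderOf q ∧ P (orderOf q)},
      ∃ g : G, ConjClasses.mk (QuotientGroup.mk g : G ⧸ N) = c.1 ∧ ¬ p ∣ orderOf g ∧ P (orderOf g) := by
    rintro ⟨c, q, h1, h2, h3⟩
    obtain ⟨g, rfl, hg⟩ := exists_lift N h2
    exact ⟨g, h1, hg, by rwa [← orderOf_mk N hN hg]⟩
  choose x hx1 hx2 hx3 using key
  exact nc_eq_card (G := G) (P := fun n => ¬ p ∣ n ∧ P n) x (fun i => ⟨hx2 i, hx3 i⟩)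
    (fun i j hij => by
      obtain ⟨t, ht⟩ := isConj_iff.1 hij
      apply Subtype.ext
      rw [← hx1 i, ← hx1 j, ConjClasses.mk_eq_mk_iff_isConj, isConj_iff]
      exact ⟨QuotientGroup.mk t, by rw [← ht]; rfl⟩)
    (fun g hg => by
      obtain ⟨hg1, hg2⟩ := hg
      have h1 := orderOf_mk N hN hg1
      refine ⟨⟨ConjClasses.mk (QuotientGroup.mk g : G ⧸ N), QuotientGroup.mk g, rfl, by rwa [h1],
        by rwa [h1]⟩, ?_⟩
      have h2 := hx1 ⟨ConjClasses.mk (QuotientGroup.mk g : G ⧸ N), QuotientGroup.mk g, rfl,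
        by rwa [h1], by rwa [h1]⟩
      rw [ConjClasses.mk_eq_mk_iff_isConj] at h2
      obtain ⟨t, ht⟩ := isConj_iff.1 h2.symm
      obtain ⟨t, rfl⟩ := QuotientGroup.mk_surjective t
      have h3 : IsConj g (t * g * t⁻¹) := isConj_iff.2 ⟨t, rfl⟩
      refine h3.trans (isConj_of_mk N hN ?_ (hx2 _) ?_)
      · rwa [orderOf_conj]
      · rw [← ht]; rfl)

end Cfsg.Agent.H865.HallClasses
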