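import Cfsg.Agent.H860.Two24
import Cfsg.Agent.SporadicStructure.M24Frame

/-!
# The 2-elements of `M22` (the pointwise stabiliser of two points in `M24`)

* `two_cases` : a 2-element of `M24` fixing `none` and `some 0` is conjugate, by an element of `M24` fixing
  `none` and `some 0`, to one of five elements `el (tg.getD k idP)` (classes 1A, 2A, 4B, 4A, 8A of `M22`);
* `cent8` : an element of `M24` fixing `none` and commuting with `el (tg.getD 4 idP)` is a power of it;
* `of_order_two`, `of_order_four`, `of_order_eight` : the classes by the order.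
-/

set_option autoImplicit false

namespace Cfsg.Agent.H865.M22Two

open Cfsg Cfsg.Agent.SporadicStructure.M24El Cfsg.Agent.SporadicA.GolayPerm Cfsg.Agent.SporadicA.GolayBase
open Cfsg.Agent.H860.Two24Data Cfsg.Agent.H860.Two24

/-- representatives of the 2-elements of `M22` -/
def tg : List ℕ := [984818244535754528103549039458486304, 983551852417171758156912368798900256, 970574716295118484978812772885499008, 984444313086864558421995742537731648, 957174374799936231521978566913147456]

/-- `(j, p, q, h, k)`: `h` conjugates `rp j` to `tg k` and maps the fixed points `p, q` to `23, 0` -/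
def tab : List (ℕ × ℕ × ℕ × ℕ × ℕ) := [
  (1, 1, 3, 717147157198455864308529379917453046, 1),
  (1, 3, 1, 133870701496102692426769276603192342, 1),
  (1, 4, 7, 168895870332424268678399260194526550, 1),
  (1, 5, 20, 601333328354842375684903187005887670, 1),
  (1, 7, 4, 641953912881610770705379648707319318, 1),
  (1, 14, 18, 354955280420484017542053707956770422, 1),
  (1, 18, 14, 294764723544385915421297447571936662, 1),
  (1, 20, 5, 88582612169049258382779569457517622, 1),
  (1, 1, 7, 354660201304388266383632456001017590, 1),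
  (1, 3, 4, 601105439671101651007863220398183958, 1),
  (1, 4, 3, 88861767662404340913936480309630294, 1),
  (1, 5, 14, 134412254466747504179828773193045398, 1),
  (1, 7, 1, 294994418382645144970060702643737622, 1),
  (1, 14, 5, 716672070465241923408050992679409270, 1),
  (1, 18, 20, 641411662950722667601885267250238646, 1),
  (1, 20, 18, 169387989882654091727430392133080118, 1),
  (1, 1, 18, 88392246706414480980554728388056822, 1),
  (1, 3, 14, 641593724334534736509288439609021846, 1),
  (1, 4, 5, 355007075830492677362071876341519702, 1),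
  (1, 5, 4, 294840568414361201625032756276811286, 1),
  (1, 7, 20, 133783013253782199863379456554259638, 1),
  (1, 14, 3, 169046531344215655968157736604030582, 1),
  (1, 18, 1, 601704567992638496694968823396815894, 1),
  (1, 20, 7, 717134273957665475055297492141233206, 1),
  (1, 1, 5, 169319200031770790672100644182218486, 1),
  (1, 3, 20, 295352829247823600924626626611500214, 1),
  (1, 4, 18, 716845362258839545310625700714534230, 1),
  (1, 5, 1, 641336498947770185105094190278169622, 1),
  (1, 7, 14, 601191261099841736782349751700247958, 1),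
  (1, 14, 7, 88890558432714911150940131107034742, 1),
  (1, 18, 4, 134041760068856229716479187645748758, 1),
  (1, 20, 3, 354525482484438160068295637869810742, 1),
  (1, 1, 20, 351089303856982053872486827312961270, 1),
  (1, 3, 5, 129913449141246009903837799455118742, 1),
  (1, 4, 14, 92306062223554826028549010365797718, 1),
  (1, 5, 3, 726207410081906104359627985284781686, 1),
  (1, 7, 18, 645469463291991604312374843111986358, 1),
  (1, 14, 4, 592624927731438545552650163179279894, 1),
  (1, 18, 7, 170338835519368793661350446630458422, 1),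
  (1, 20, 1, 293556986764717785171782192677377046, 1),
  (1, 1, 14, 710351625233238767978526068967659254, 1),
  (1, 3, 18, 584320533794264131572322057419740342, 1),
  (1, 4, 20, 186193336624214226636631665509029206, 1),
  (1, 5, 7, 341522355918780141088801638370006646, 1),
  (1, 7, 5, 301844900006133861318586743121073558, 1),
  (1, 14, 1, 147020380373520167140934078617932822, 1),
  (1, 18, 3, 101874293905578674468345009602057270, 1),
  (1, 20, 4, 628379012755475817159092232119768598, 1),
  (1, 3, 7, 350933275136001441382786929377662358, 1),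
  (1, 5, 18, 592392734751933924706205526974288950, 1),
  (1, 7, 3, 293812392384477077269813382089823862, 1),
  (1, 18, 5, 92624881320616477879741707520922806, 1),
  (1, 1, 4, 584876849198700610880544217720084214, 1),
  (1, 4, 1, 102000420207890233760369363913856022, 1),
  (1, 14, 20, 342124359973824024516926613142230550, 1),
  (1, 20, 14, 301912666102353947034496308655576406, 1),
  (4, 1, 4, 102165209850097516829294116189998833, 2),
  (4, 18, 1, 94321473231584195792444032163580945, 2),
  (4, 5, 18, 100169909236277268513653933087067473, 2),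
  (4, 4, 5, 108195892957453538964218158832291313, 2),
  (4, 18, 5, 112210083109538553991464657143336433, 2),
  (4, 1, 18, 110676672802798877743935213265981169, 2),
  (4, 4, 1, 90103508199573134416286027297131537, 2),
  (4, 5, 4, 98149768140822687741453558819786065, 2),
  (4, 1, 5, 594806514088841620429284170990263020, 3),
  (4, 18, 4, 601749213618363846284002449179122380, 3),
  (4, 5, 1, 603666137750909387588295005574535180, 3),
  (4, 4, 18, 587101482460506312649354177165138284, 3),
  (6, 4, 18, 650458302536369413310680533443494542, 4),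
  (6, 18, 4, 511733463177583671894697241037312169, 4)]

/-- check of a row -/
def rowOk (j p q : ℕ) (r : ℕ × ℕ × ℕ × ℕ × ℕ) : Bool :=
  Nat.beq r.1 j && (Nat.beq r.2.1 p && (Nat.beq r.2.2.1 q && (ok r.2.2.2.1 &&
    (Nat.beq (pcomp r.2.2.2.1 (rp.getD j idP)) (pcomp (tg.getD r.2.2.2.2 idP) r.2.2.2.1) &&
      (Nat.beq (papp r.2.2.2.1 p) 23 && (Nat.beq (papp r.2.2.2.1 q) 0 && Nat.blt r.2.2.2.2 5))))))

/-- `rp j` fixes the point `p` -/
def fixes (j p : ℕ) : Bool := Nat.beq (papp (rp.getD j idP) p) p

/-- the table is complete -/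
def allOk : Bool := (List.range 6).all fun i => (List.range 24).all fun p => !(fixes (i + 1) p) ||
  (List.range 24).all fun q => !(fixes (i + 1) q) || (Nat.beq p q || tab.any (rowOk (i + 1) p q))

set_option maxRecDepth 100000 in
theorem allOk_true : allOk = true := by decide +kernel

theorem tg_ok : ∀ P ∈ tg, ok P = true := by decide +kernel

theorem exists_row {j p q : ℕ} (h0 : j ≠ 0) (h6 : j < 7) (hp : p < 24) (hq : q < 24) (hpq : p ≠ q)
    (h1 : papp (rp.getD j idP) p = p) (h2 : papp (rp.getD j idP) q = q) :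
    ∃ r, rowOk j p q r = true := by
  have h := List.all_eq_true.1 allOk_true (j - 1) (List.mem_range.2 (by omega))
  have hj : j - 1 + 1 = j := by omega
  rw [hj] at h
  have h3 := List.all_eq_true.1 h p (List.mem_range.2 hp)
  have hf : ∀ x, papp (rp.getD j idP) x = x → fixes j x = true := by
    intro x hx
    unfold fixes
    rw [hx]
    exact Nat.beq_refl _
  rw [hf p h1, Bool.not_true, Bool.false_or] at h3
  have h4 := List.all_eq_true.1 h3 q (List.mem_range.2 hq)
  rw [hf q h2, Bool.not_true, Bool.false_or, Bool.or_eq_true] at h4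
  rcases h4 with h4 | h4
  · exact absurd (Nat.eq_of_beq_eq_true h4) hpq
  · obtain ⟨r, -, hr⟩ := List.any_eq_true.1 h4
    exact ⟨r, hr⟩

/-- the classes of 2-elements of `M22` -/
theorem two_cases {u : M24} {n : ℕ} (hu : u ^ 2 ^ n = 1) (h0 : (u : Equiv.Perm GolayPt) (pt 23) = pt 23)
    (h1 : (u : Equiv.Perm GolayPt) (pt 0) = pt 0) :
    ∃ m : M24, (m : Equiv.Perm GolayPt) (pt 23) = pt 23 ∧ (m : Equiv.Perm GolayPt) (pt 0) = pt 0 ∧
      ∃ k, k < 5 ∧ m * u * m⁻¹ = el (tg.getD k idP) := by
  obtain ⟨c, j, hc⟩ := two_conj hu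
  by_cases hj : j = 0 ∨ 7 ≤ j
  · have h2 : rp.getD j idP = idP := by
      rcases hj with rfl | hj
      · rfl
      · exact List.getD_eq_default _ _ hj
    rw [h2, el_idP, mul_inv_eq_one] at hc
    have h3 : u = 1 := by rwa [mul_eq_left] at hc
    refine ⟨1, rfl, rfl, 0, by norm_num, ?_⟩
    rw [h3]
    show 1 * 1 * 1⁻¹ = el idP
    rw [el_idP]; group
  · push Not at hj
    set r := rp.getD j idP with hr
    have hrok : ok r = true := ok_getD rp_ok _
    have hcu : c * u = el r * c := by rw [← hc]; group
    -- fixed points of `el r`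
    have hfix : ∀ i, (u : Equiv.Perm GolayPt) (pt i) = pt i →
        papp r (idx ((c : Equiv.Perm GolayPt) (pt i))) = idx ((c : Equiv.Perm GolayPt) (pt i)) := by
      intro i hi
      have h4 : (el r : M24) • ((c : Equiv.Perm GolayPt) (pt i)) = (c : Equiv.Perm GolayPt) (pt i) := by
        have h5 : ((c * u : M24) : Equiv.Perm GolayPt) (pt i) = ((el r * c : M24) : Equiv.Perm GolayPt) (pt i) := by
          rw [hcu]
        have h6 : (c : Equiv.Perm GolayPt) ((u : Equiv.Perm GolayPt) (pt i)) =
          (el r : Equiv.Perm GolayPt) ((c : Equiv.Perm GolayPt) (pt i)) := h5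
        rw [hi] at h6
        exact h6.symm
      have h5 := idx_el_smul hrok ((c : Equiv.Perm GolayPt) (pt i))
      rw [h4] at h5
      exact h5.symm
    have hne : idx ((c : Equiv.Perm GolayPt) (pt 23)) ≠ idx ((c : Equiv.Perm GolayPt) (pt 0)) := by
      intro h
      have h4 := congrArg pt h
      rw [pt_idx, pt_idx] at h4
      have h5 := (c : Equiv.Perm GolayPt).injective h4
      have h6 := congrArg idx h5
      rw [idx_pt (by norm_num), idx_pt (by norm_num)] at h6
      exact absurd h6 (by norm_num)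
    obtain ⟨t, ht⟩ := exists_row hj.1 hj.2 (idx_lt _) (idx_lt _) hne (hfix 23 h0) (hfix 0 h1)
    unfold rowOk at ht
    simp only [Bool.and_eq_true] at ht
    obtain ⟨-, -, -, hok, hcomp, h23, h00, hk⟩ := ht
    have h23' := Nat.eq_of_beq_eq_true h23
    have h00' := Nat.eq_of_beq_eq_true h00
    have hmap : ∀ i k : ℕ, k < 24 → papp t.2.2.2.1 (idx ((c : Equiv.Perm GolayPt) (pt i))) = k →
        ((el t.2.2.2.1 * c : M24) : Equiv.Perm GolayPt) (pt i) = pt k := by
      intro i k hk h4
      have h5 := idx_el_smul hok ((c : Equiv.Perm GolayPt) (pt i))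
      rw [h4] at h5
      rw [← h5, pt_idx]
      rfl
    refine ⟨el t.2.2.2.1 * c, hmap 23 23 (by norm_num) h23', hmap 0 0 (by norm_num) h00', t.2.2.2.2,
      Nat.blt_eq.mp hk, ?_⟩
    have h4 := congrArg el (Nat.eq_of_beq_eq_true hcomp)
    rw [el_pcomp hok hrok, el_pcomp (ok_getD tg_ok _) hok] at h4
    calc el t.2.2.2.1 * c * u * (el t.2.2.2.1 * c)⁻¹ = el t.2.2.2.1 * (c * u * c⁻¹) * (el t.2.2.2.1)⁻¹ := by group
      _ = el t.2.2.2.1 * el r * (el t.2.2.2.1)⁻¹ := by rw [hc]
      _ = el (tg.getD t.2.2.2.2 idP) := by rw [h4, mul_inv_cancel_right]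

/-! ### orders -/

theorem el_sq_eq {P Q : ℕ} (hP : ok P = true) (h : Nat.beq (pcomp P P) Q = true) : el P ^ 2 = el Q := by
  rw [pow_two, ← el_pcomp hP hP, Nat.eq_of_beq_eq_true h]

/-- check of `x ^ (2 ^ i) = 1` -/
def sqs (P : ℕ) (i : ℕ) : ℕ := Nat.rec (motive := fun _ => ℕ) P (fun _ Q => pcomp Q Q) i

theorem sqs_ok {P : ℕ} (hP : ok P = true) (i : ℕ) : ok (sqs P i) = true := by
  induction i with
  | zero => exact hP
  | succ i ih => exact ok_pcomp ih ih

theorem el_sqs {P : ℕ} (hP : ok P = true) (i : ℕ) : el (sqs P i) = el P ^ 2 ^ i := by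
  induction i with
  | zero => rw [pow_zero, pow_one]; rfl
  | succ i ih =>
    show el (pcomp (sqs P i) (sqs P i)) = _
    rw [el_pcomp (sqs_ok hP i) (sqs_ok hP i), ih, ← pow_add, pow_succ, mul_two]

theorem el_inj {P Q : ℕ} (hP : ok P = true) (hQ : ok Q = true) (h : el P = el Q) :
    (List.range 24).all (fun i => Nat.beq (papp P i) (papp Q i)) = true := by
  rw [List.all_eq_true]
  intro i hi
  have hi' := List.mem_range.1 hi
  have h1 := idx_el_smul hP (pt i)
  have h2 := idx_el_smul hQ (pt i)
  rw [h, h2, idx_pt hi'] at h1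
  rw [h1]
  exact Nat.beq_refl _

theorem sqs_tab : (List.range 5).all (fun k => Nat.beq (sqs (tg.getD k idP) 3) idP) = true ∧
    (List.range 4).all (fun k => Nat.beq (sqs (tg.getD k idP) 2) idP) = true ∧
    (List.range 2).all (fun k => Nat.beq (sqs (tg.getD k idP) 1) idP) = true := by decide +kernel

theorem pow_four {k : ℕ} (hk : k < 4) : el (tg.getD k idP) ^ 4 = 1 := by
  have h := Nat.eq_of_beq_eq_true (List.all_eq_true.1 sqs_tab.2.1 k (List.mem_range.2 hk))
  have h1 := el_sqs (ok_getD tg_ok k) 2
  rw [h, el_idP] at h1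
  exact h1.symm

theorem pow_two' {k : ℕ} (hk : k < 2) : el (tg.getD k idP) ^ 2 = 1 := by
  have h := Nat.eq_of_beq_eq_true (List.all_eq_true.1 sqs_tab.2.2 k (List.mem_range.2 hk))
  have h1 := el_sqs (ok_getD tg_ok k) 1
  rw [h, el_idP] at h1
  exact h1.symm

theorem ne_one {P : ℕ} (hP : ok P = true) (h : (List.range 24).all (fun i => Nat.beq (papp P i) i) = false) :
    el P ≠ 1 := by
  intro h1
  rw [← el_idP] at h1
  have h2 := el_inj hP ok_idP h1
  have h3 : (List.range 24).all (fun i => Nat.beq (papp P i) i) = true := by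
    rw [List.all_eq_true] at h2 ⊢
    intro i hi
    have h4 := h2 i hi
    have h5 : ∀ i, i < 24 → papp idP i = i := by decide +kernel
    rwa [h5 i (List.mem_range.1 hi)] at h4
  rw [h] at h3
  exact absurd h3 (by decide)

theorem sq_ne_one {k : ℕ} (h2 : 2 ≤ k) (h5 : k < 5) : el (tg.getD k idP) ^ 2 ≠ 1 := by
  have h1 := el_sqs (ok_getD tg_ok k) 1
  rw [pow_one] at h1
  rw [← h1]
  apply ne_one (sqs_ok (ok_getD tg_ok k) 1)
  interval_cases k <;> decide +kernel

theorem four_ne_one : el (tg.getD 4 idP) ^ 4 ≠ 1 := by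
  have h1 := el_sqs (ok_getD tg_ok 4) 2
  have h2 : 2 ^ 2 = 4 := by norm_num
  rw [h2] at h1
  rw [← h1]
  apply ne_one (sqs_ok (ok_getD tg_ok 4) 2)
  decide +kernel

theorem one_ne_one : el (tg.getD 1 idP) ≠ 1 := by
  apply ne_one (ok_getD tg_ok 1)
  decide +kernel

/-! ### the centralizer of the element of order 8 -/

/-- powers of `tg 4` -/
def pw (i : ℕ) : ℕ := Nat.rec (motive := fun _ => ℕ) idP (fun _ Q => pcomp Q (tg.getD 4 idP)) i

theorem pw_ok (i : ℕ) : ok (pw i) = true := by
  induction i with
  | zero => exact ok_idP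
  | succ i ih => exact ok_pcomp ih (ok_getD tg_ok 4)

theorem el_pw (i : ℕ) : el (pw i) = el (tg.getD 4 idP) ^ i := by
  induction i with
  | zero => rw [pow_zero]; exact el_idP
  | succ i ih =>
    show el (pcomp (pw i) (tg.getD 4 idP)) = _
    rw [el_pcomp (pw_ok i) (ok_getD tg_ok 4), ih, pow_succ]

theorem pw_pt (i j : ℕ) (hj : j < 24) : ((el (tg.getD 4 idP) ^ i : M24) : Equiv.Perm GolayPt) (pt j) =
    pt (papp (pw i) j) := by
  rw [← el_pw]
  have h := el_smul_pt (pw_ok i) (pt j)
  rw [idx_pt hj] at h
  exact h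

theorem pw_orb : ∀ y < 24, papp (pw 4) y ≠ y → ∃ i < 8, y = papp (pw i) 2 ∨ y = papp (pw i) 4 := by
  decide +kernel

/-- ten points -/
def KM : ℕ := 9030669

/-- five points -/
def FM : ℕ := 98317

/-- certificate for the ten points -/
def cert8 : List (ℕ × ℕ × ℕ) := [(1302533, 10305542, 20), (1302533, 11100169, 13), (4845570, 9347075, 1),
  (4845570, 10170384, 12), (13062145, 4845570, 22), (13062145, 13938692, 18), (13062145, 13062145, 17),
  (7221256, 7221256, 21), (10170384, 10170384, 4), (11952160, 11952160, 5), (15515712, 15515712, 6),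
  (2019456, 2019456, 7), (4038912, 4038912, 8), (8077824, 8077824, 9)]

theorem run8 : SporadicStructure.M24Frame.run KM cert8 = true := by decide +kernel

theorem mem_KM : ∀ p ∈ fin KM, p = pt 23 ∨ p = pt 0 ∨ ∃ k < 8, p = pt (papp (pw k) 2) := by decide +kernel

theorem five8 : ∀ p ∈ fin FM, p = pt 0 ∨ p = pt (papp (pw 0) 2) ∨ p = pt (papp (pw 1) 2) ∨
    p = pt (papp (pw 2) 2) ∨ p = pt (papp (pw 7) 2) := by decide +kernel

/-- elements commuting with `tg 4` and fixing `pt 2` -/
theorem rigid8 {g : M24} (hg : el (tg.getD 4 idP) * g = g * el (tg.getD 4 idP)) {a : ℕ} (ha : a < 24)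
    (h2 : (g : Equiv.Perm GolayPt) (pt 2) = pt a) (k : ℕ) :
    (g : Equiv.Perm GolayPt) (pt (papp (pw k) 2)) = pt (papp (pw k) a) := by
  have h3 : el (tg.getD 4 idP) ^ k * g = g * el (tg.getD 4 idP) ^ k :=
    (show Commute (el (tg.getD 4 idP)) g from hg).pow_left k
  have h4 : ((g * el (tg.getD 4 idP) ^ k : M24) : Equiv.Perm GolayPt) (pt 2) =
      ((el (tg.getD 4 idP) ^ k * g : M24) : Equiv.Perm GolayPt) (pt 2) := by rw [h3]
  have h5 : (g : Equiv.Perm GolayPt) (((el (tg.getD 4 idP) ^ k : M24) : Equiv.Perm GolayPt) (pt 2)) =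
      ((el (tg.getD 4 idP) ^ k : M24) : Equiv.Perm GolayPt) ((g : Equiv.Perm GolayPt) (pt 2)) := h4
  rw [h2, pw_pt _ _ (by norm_num), pw_pt _ _ ha] at h5
  exact h5

theorem cent8 {g : M24} (h0 : (g : Equiv.Perm GolayPt) (pt 23) = pt 23)
    (h1 : (g : Equiv.Perm GolayPt) (pt 0) = pt 0)
    (hg : el (tg.getD 4 idP) * g = g * el (tg.getD 4 idP)) : ∃ i : ℕ, g = el (tg.getD 4 idP) ^ i := by
  set R := el (tg.getD 4 idP) with hR
  set y := idx ((g : Equiv.Perm GolayPt) (pt 2)) with hy
  have hy24 : y < 24 := idx_lt _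
  have hyp : (g : Equiv.Perm GolayPt) (pt 2) = pt y := by rw [hy, pt_idx]
  have hne : papp (pw 4) y ≠ y := by
    intro h
    have h3 := rigid8 hg hy24 hyp 4
    rw [h, ← hyp] at h3
    have h4 := congrArg idx ((g : Equiv.Perm GolayPt).injective h3)
    rw [idx_pt (papp_lt (ok_iff.1 (pw_ok 4)).1 (by norm_num)), idx_pt (by norm_num)] at h4
    revert h4
    decide +kernel
  obtain ⟨i, -, hi⟩ := pw_orb y hy24 hne
  -- `g' = R⁻ⁱ g`
  have key : ∀ a < 24, y = papp (pw i) a → ∃ g' : M24, g = R ^ i * g' ∧ (g' : Equiv.Perm GolayPt) (pt 23) = pt 23 ∧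
      (g' : Equiv.Perm GolayPt) (pt 0) = pt 0 ∧ R * g' = g' * R ∧ (g' : Equiv.Perm GolayPt) (pt 2) = pt a := by
    intro a ha hya
    have hf : ∀ j < 24, (∀ k, papp (pw k) j = j) → ((R ^ i : M24) : Equiv.Perm GolayPt)⁻¹ (pt j) = pt j := by
      intro j hj h
      rw [Equiv.Perm.inv_eq_iff_eq, pw_pt i j hj, h]
    have hall : ∀ k, papp (pw k) 23 = 23 ∧ papp (pw k) 0 = 0 := by
      intro k
      have h4 : ∀ k, ((R ^ k : M24) : Equiv.Perm GolayPt) (pt 23) = pt 23 ∧
          ((R ^ k : M24) : Equiv.Perm GolayPt) (pt 0) = pt 0 := by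
        intro k
        induction k with
        | zero => exact ⟨rfl, rfl⟩
        | succ k ih =>
          rw [pow_succ]
          have e1 : (R : Equiv.Perm GolayPt) (pt 23) = pt 23 := by
            have := pw_pt 1 23 (by norm_num)
            rw [pow_one] at this
            rw [hR, this]
            decide +kernel
          have e2 : (R : Equiv.Perm GolayPt) (pt 0) = pt 0 := by
            have := pw_pt 1 0 (by norm_num)
            rw [pow_one] at this
            rw [hR, this]
            decide +kernel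
          constructor
          · show ((R ^ k : M24) : Equiv.Perm GolayPt) ((R : Equiv.Perm GolayPt) (pt 23)) = pt 23
            rw [e1, ih.1]
          · show ((R ^ k : M24) : Equiv.Perm GolayPt) ((R : Equiv.Perm GolayPt) (pt 0)) = pt 0
            rw [e2, ih.2]
      have h5 := pw_pt k 23 (by norm_num)
      have h6 := pw_pt k 0 (by norm_num)
      rw [(h4 k).1] at h5
      rw [(h4 k).2] at h6
      have e5 := congrArg idx h5
      have e6 := congrArg idx h6
      rw [idx_pt (by norm_num), idx_pt (papp_lt (ok_iff.1 (pw_ok k)).1 (by norm_num))] at e5 e6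
      exact ⟨e5.symm, e6.symm⟩
    refine ⟨(R ^ i)⁻¹ * g, by rw [mul_inv_cancel_left], ?_, ?_, ?_, ?_⟩
    · show ((R ^ i : M24) : Equiv.Perm GolayPt)⁻¹ ((g : Equiv.Perm GolayPt) (pt 23)) = pt 23
      rw [h0]
      exact hf 23 (by norm_num) fun k => (hall k).1
    · show ((R ^ i : M24) : Equiv.Perm GolayPt)⁻¹ ((g : Equiv.Perm GolayPt) (pt 0)) = pt 0
      rw [h1]
      exact hf 0 (by norm_num) fun k => (hall k).2
    · have c1 : Commute R (R ^ i)⁻¹ := ((Commute.refl R).pow_right i).inv_right
      exact (c1.mul_right (show Commute R g from hg)).eq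
    · show ((R ^ i : M24) : Equiv.Perm GolayPt)⁻¹ ((g : Equiv.Perm GolayPt) (pt 2)) = pt a
      rw [hyp, Equiv.Perm.inv_eq_iff_eq, pw_pt i a ha, hya]
  rcases hi with hi | hi
  · obtain ⟨g', rfl, k0, k1, k2, k3⟩ := key 2 (by norm_num) hi
    have h4 : (g' : Equiv.Perm GolayPt) = 1 := by
      apply SporadicStructure.M24Frame.rigid_of_run g'.2 _ _ run8
      intro p hp
      rcases mem_KM p hp with rfl | rfl | ⟨k, -, rfl⟩
      · exact k0
      · exact k1
      · exact rigid8 k2 (by norm_num) k3 k
    exact ⟨i, by rw [show g' = 1 from Subtype.ext h4, mul_one]⟩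
  · exfalso
    obtain ⟨g', -, k0, k1, k2, k3⟩ := key 4 (by norm_num) hi
    have hmap := rigid8 k2 (show 4 < 24 by norm_num) k3
    have ho : SporadicStructure.M24Frame.isOct 622863 = true := by decide +kernel
    have ho' : SporadicStructure.M24Frame.isOct 2229713 = true := by decide +kernel
    have h5 := SporadicStructure.M24Frame.smul_octad_eq_of_five g'.2
      (SporadicStructure.M24Frame.fin_mem_octads_of_isOct ho)
      (SporadicStructure.M24Frame.fin_mem_octads_of_isOct ho') (s := fin FM) (by decide +kernel)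
      (by decide +kernel) (by
        intro z hz
        rcases five8 z hz with rfl | rfl | rfl | rfl | rfl
        · rw [k1]; decide +kernel
        · rw [hmap]; decide +kernel
        · rw [hmap]; decide +kernel
        · rw [hmap]; decide +kernel
        · rw [hmap]; decide +kernel)
    have h6 : pt (papp (pw 4) 2) ∈ fin 622863 := by decide +kernel
    have h7 : (g' : Equiv.Perm GolayPt) (pt (papp (pw 4) 2)) ∈ fin 2229713 := by
      rw [← h5]
      exact Finset.smul_mem_smul_finset h6
    rw [hmap] at h7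
    revert h7
    decide +kernel

end Cfsg.Agent.H865.M22Two
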