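import Mathlib

/-!
# A group `7 : 3` acting on an elementary abelian 2-group

`exists_fixed` : an element of order 3 of a group `7 : 3` normalizing a subgroup `E` of exponent 2 commutes with an
element of `E` other than 1, or the element of order 7 centralizes `E`.
-/

set_option autoImplicit false

namespace Cfsg.Agent.H865.U3Frob

theorem ring_aux {R : Type*} [Ring R] (h2 : (2 : R) = 0) {s c : R} (hs : s ^ 7 = 1) (hc : 1 + c + c * c = 0)
    (hcs : c * s = s * s * c) : s = 1 := by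
  have hneg : ∀ x : R, -x = x := fun x => by
    have h : x + x = 0 := by rw [← two_mul, h2, zero_mul]
    exact neg_eq_of_add_eq_zero_left h
  have hadd : ∀ x : R, x + x = 0 := fun x => by rw [← two_mul, h2, zero_mul]
  have hcc : c * c = 1 + c := by
    have h := eq_neg_of_add_eq_zero_right hc
    rw [hneg] at h
    exact h
  have h1 : c * c * s = s ^ 4 * (c * c) := by
    calc c * c * s = c * (c * s) := by rw [mul_assoc]
      _ = c * (s * s * c) := by rw [hcs]
      _ = (c * s) * (s * c) := by simp only [mul_assoc]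
      _ = (s * s * c) * (s * c) := by rw [hcs]
      _ = s * s * (c * s) * c := by simp only [mul_assoc]
      _ = s * s * (s * s * c) * c := by rw [hcs]
      _ = s ^ 4 * (c * c) := by simp only [pow_succ, pow_zero, one_mul, mul_assoc]
  rw [hcc, add_mul, one_mul, hcs, mul_add, mul_one] at h1
  -- `s + s² c = s⁴ + s⁴ c`
  have h3 : s + s ^ 4 = (s ^ 2 + s ^ 4) * c := by
    have h4 : s + s ^ 4 = (s + s * s * c) + (s * s * c + s ^ 4) := by
      rw [add_assoc, ← add_assoc (s * s * c), hadd, zero_add]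
    rw [h4, h1, add_mul, pow_two]
    have h5 : s ^ 4 + s ^ 4 * c + (s * s * c + s ^ 4) = (s ^ 4 + s ^ 4) + (s ^ 4 * c + s * s * c) := by abel
    rw [h5, hadd, zero_add, add_comm]
  have h4 : (s + s ^ 4) * s = s ^ 2 * (s + s ^ 4) := by
    rw [h3, mul_assoc, hcs]
    have h5 : (s ^ 2 + s ^ 4) * (s * s * c) = ((s ^ 2 + s ^ 4) * (s * s)) * c := by simp only [mul_assoc]
    have h6 : (s ^ 2 + s ^ 4) * (s * s) = s ^ 2 * (s ^ 2 + s ^ 4) := by noncomm_ring
    rw [h5, h6, mul_assoc]
  -- `s² + s⁵ + s³ + s⁶ = 0`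
  have h5 : s ^ 2 + s ^ 5 + s ^ 3 + s ^ 6 = 0 := by
    have h6 : (s + s ^ 4) * s + s ^ 2 * (s + s ^ 4) = 0 := by rw [h4, hadd]
    have h7 : (s + s ^ 4) * s + s ^ 2 * (s + s ^ 4) = s ^ 2 + s ^ 5 + s ^ 3 + s ^ 6 := by noncomm_ring
    rw [← h7, h6]
  have h6 : 1 + s + s ^ 3 + s ^ 4 = 0 := by
    have h7 : s ^ 7 * (1 + s + s ^ 3 + s ^ 4) = s ^ 5 * (s ^ 2 + s ^ 5 + s ^ 3 + s ^ 6) := by noncomm_ring
    rw [h5, mul_zero, hs, one_mul] at h7
    exact h7
  have h7 : (s ^ 3 + s ^ 2 + s) * (1 + s + s ^ 3 + s ^ 4) =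
      s ^ 7 + s + ((s ^ 2 + s ^ 3 + s ^ 4 + s ^ 5 + s ^ 6) + (s ^ 2 + s ^ 3 + s ^ 4 + s ^ 5 + s ^ 6)) := by
    noncomm_ring
  rw [h6, mul_zero, hadd, add_zero, hs] at h7
  have h8 := eq_neg_of_add_eq_zero_right h7.symm
  rw [hneg] at h8
  exact h8

variable {G : Type*} [Group G]

/-- **a group `7 : 3` acting on a group of exponent 2** -/
theorem exists_fixed {E : Subgroup G} (hE : ∀ x ∈ E, x * x = 1) {s c : G} (hs : s ^ 7 = 1) (hc : c ^ 3 = 1)
    (hcs : c * s = s * s * c) (hsN : s ∈ Subgroup.normalizer (E : Set G))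
    (hcN : c ∈ Subgroup.normalizer (E : Set G)) (hno : ∀ x ∈ E, c * x = x * c → x = 1) :
    ∀ x ∈ E, s * x = x * s := by
  have hinv : ∀ x : E, x⁻¹ = x := fun x => inv_eq_of_mul_eq_one_left (Subtype.ext (hE x x.2))
  let _ : CommGroup E := { (inferInstance : Group E) with
    mul_comm := fun a b => by
      have h1 := hinv (a * b)
      rw [mul_inv_rev, hinv, hinv] at h1
      exact h1.symm }
  have hext : ∀ a b : AddMonoid.End (Additive E), (∀ x : E, ((Additive.toMul (a (Additive.ofMul x)) : E) : G) =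
      ((Additive.toMul (b (Additive.ofMul x)) : E) : G)) → a = b := by
    intro a b h
    ext x
    exact h (Additive.toMul x)
  let f : Subgroup.normalizer (E : Set G) →* AddMonoid.End (Additive E) :=
    { toFun := fun g => MonoidHom.toAdditive (E.normalizerMonoidHom g).toMonoidHom
      map_one' := by
        apply hext
        intro x
        change ((1 : Subgroup.normalizer (E : Set G)) : G) * x * ((1 : Subgroup.normalizer (E : Set G)) : G)⁻¹ = x
        simp
      map_mul' := fun g h => by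
        apply hext
        intro x
        change ((g * h : Subgroup.normalizer (E : Set G)) : G) * x * ((g * h : Subgroup.normalizer (E : Set G)) : G)⁻¹ =
          g * (h * x * (h : G)⁻¹) * (g : G)⁻¹
        rw [Subgroup.coe_mul]
        group }
  have hf : ∀ (g : Subgroup.normalizer (E : Set G)) (x : E),
      ((Additive.toMul (f g (Additive.ofMul x)) : E) : G) = g * x * (g : G)⁻¹ := fun g x => rfl
  have h2 : (2 : AddMonoid.End (Additive E)) = 0 := by
    rw [← one_add_one_eq_two]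
    apply hext
    intro x
    exact hE x x.2
  have h3 : f ⟨s, hsN⟩ = 1 := by
    apply ring_aux h2 (c := f ⟨c, hcN⟩)
    · rw [← map_pow]
      have h4 : (⟨s, hsN⟩ : Subgroup.normalizer (E : Set G)) ^ 7 = 1 := Subtype.ext hs
      rw [h4, map_one]
    · apply hext
      intro x
      have hxc : c * x * c⁻¹ ∈ E := ((Subgroup.mem_normalizer_iff.1 hcN) x).1 x.2
      have hxcc : c * (c * x * c⁻¹) * c⁻¹ ∈ E := ((Subgroup.mem_normalizer_iff.1 hcN) _).1 hxc
      have h4 : (x : G) * (c * x * c⁻¹) * (c * (c * x * c⁻¹) * c⁻¹) = 1 := by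
        apply hno _ (E.mul_mem (E.mul_mem x.2 hxc) hxcc)
        have h5 : (x : G) * (c * x * c⁻¹) * (c * (c * x * c⁻¹) * c⁻¹) =
            (c * x * c⁻¹) * (c * (c * x * c⁻¹) * c⁻¹) * x := by
          have h6 := mul_comm x (⟨c * x * c⁻¹, hxc⟩ * ⟨c * (c * x * c⁻¹) * c⁻¹, hxcc⟩ : E)
          have h7 := congrArg Subtype.val h6
          simpa only [Subgroup.coe_mul, mul_assoc] using h7
        have h6 : c * ((x : G) * (c * x * c⁻¹) * (c * (c * x * c⁻¹) * c⁻¹)) =
            (c * x * c⁻¹) * (c * (c * x * c⁻¹) * c⁻¹) * (c ^ 3 * x * (c ^ 3)⁻¹) * c := by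
          group
        rw [h6, hc, inv_one, mul_one, one_mul, ← h5]
      exact h4
    · rw [← map_mul, ← map_mul, ← map_mul]
      exact congrArg f (Subtype.ext hcs)
  intro x hx
  have h4 := hf ⟨s, hsN⟩ ⟨x, hx⟩
  rw [h3] at h4
  have h5 : x = s * x * s⁻¹ := h4
  exact (eq_mul_inv_iff_mul_eq.1 h5).symm

end Cfsg.Agent.H865.U3Frob
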